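import Mathlib
import Cfsg.Agent.Lib.Helper5.StPres.StMain

set_option autoImplicit false

/-!
Sub-root-systems: when the structure constants of a Chevalley datum `D'` are the restriction of those
of a datum `D` along a map `ι` of root indices, the elements `x_{ι r}(t)` of the Chevalley group of
`D` satisfy Steinberg's relations for `D'`, and so receive a homomorphism from the group presented
by Steinberg's relations for `D'`.
-/

namespace Cfsg.Agent.Lib.Helper5.SubSys

open Cfsg Cfsg.Lie Cfsg.Agent.Lib.Helper5.ChevSym Cfsg.Agent.Lib.Helper5.ChevStruct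
  Cfsg.Agent.Lib.Helper5.StPres

/-- the check at a pair of roots -/
def chkEmbAt (D' D : ChevalleyDatum) (ι : ℕ → ℕ) (r s : ℕ) : Bool :=
  (s == r) || (s == D'.neg r) ||
    (decide (ι s ≠ ι r) && decide (ι s ≠ D.neg (ι r)) &&
      decide ((D'.commTerms r s).map (fun c => (ι c.1, c.2)) = D.commTerms (ι r) (ι s)))

/-- the check at a root -/
def chkEmbRow (D' D : ChevalleyDatum) (ι : ℕ → ℕ) (r : ℕ) : Bool :=
  decide (ι r < D.nroots) && decide (ι (D'.neg r) = D.neg (ι r)) &&
    (List.range D'.nroots).all fun s => chkEmbAt D' D ι r s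

/-- the check that `ι` embeds the datum `D'` into `D` -/
def chkEmb (D' D : ChevalleyDatum) (ι : ℕ → ℕ) : Bool :=
  (List.range D'.nroots).all fun r =>
    decide (ι r < D.nroots) && decide (ι (D'.neg r) = D.neg (ι r)) &&
      (List.range D'.nroots).all fun s => chkEmbAt D' D ι r s

theorem chkEmb_of_rows (D' D : ChevalleyDatum) (ι : ℕ → ℕ)
    (h : ∀ r < D'.nroots, chkEmbRow D' D ι r = true) : chkEmb D' D ι = true := by
  unfold chkEmb
  rw [List.all_eq_true]
  intro r hr
  exact h r (List.mem_range.1 hr)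

variable {D' D : ChevalleyDatum} {ι : ℕ → ℕ}

theorem chkEmb_lt (h : chkEmb D' D ι = true) (r : ℕ) (hr : r < D'.nroots) : ι r < D.nroots := by
  unfold chkEmb at h
  rw [List.all_eq_true] at h
  have h1 := h r (List.mem_range.2 hr)
  simp only [Bool.and_eq_true, decide_eq_true_eq] at h1
  exact h1.1.1

theorem chkEmb_neg (h : chkEmb D' D ι = true) (r : ℕ) (hr : r < D'.nroots) :
    ι (D'.neg r) = D.neg (ι r) := by
  unfold chkEmb at h
  rw [List.all_eq_true] at h
  have h1 := h r (List.mem_range.2 hr)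
  simp only [Bool.and_eq_true, decide_eq_true_eq] at h1
  exact h1.1.2

theorem chkEmb_pair (h : chkEmb D' D ι = true) (r s : ℕ) (hr : r < D'.nroots)
    (hs : s < D'.nroots) (hsr : s ≠ r) (hsn : s ≠ D'.neg r) :
    ι s ≠ ι r ∧ ι s ≠ D.neg (ι r) ∧
      (D'.commTerms r s).map (fun c => (ι c.1, c.2)) = D.commTerms (ι r) (ι s) := by
  unfold chkEmb at h
  rw [List.all_eq_true] at h
  have h1 := h r (List.mem_range.2 hr)
  simp only [Bool.and_eq_true, decide_eq_true_eq] at h1
  have h2 := h1.2
  rw [List.all_eq_true] at h2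
  have h3 := h2 s (List.mem_range.2 hs)
  unfold chkEmbAt at h3
  simp only [Bool.or_eq_true, beq_iff_eq, Bool.and_eq_true, decide_eq_true_eq] at h3
  rcases h3 with (h3 | h3) | h3
  · exact absurd h3 hsr
  · exact absurd h3 hsn
  · exact ⟨h3.1.1, h3.1.2, h3.2⟩

variable {K : Type*} [Field K]

theorem chkEmb_commWord (h : chkEmb D' D ι = true) (r s : ℕ) (hr : r < D'.nroots)
    (hs : s < D'.nroots) (hsr : s ≠ r) (hsn : s ≠ D'.neg r) (t u : K) :
    (D'.commWord K r s t u).map (fun p => (ι p.1, p.2)) = D.commWord K (ι r) (ι s) t u := by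
  unfold ChevalleyDatum.commWord
  rw [← (chkEmb_pair h r s hr hs hsr hsn).2.2, List.map_map, List.map_map]
  rfl

/-- the subgroup of the Chevalley group of `D` generated by the `x_{ι r}(t)` -/
def subGp (D' D : ChevalleyDatum) (hD : D ∈ Seven) (ι : ℕ → ℕ) (K : Type*) [Field K] :
    Subgroup ↥(D.group K) :=
  Subgroup.closure {g | ∃ (r : ℕ) (t : K), r < D'.nroots ∧ g = xG D hD (ι r) t}

/-- the generators of the subgroup -/
def subX (D' D : ChevalleyDatum) (hD : D ∈ Seven) (ι : ℕ → ℕ) (hpos : 0 < D'.nroots) (r : ℕ)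
    (t : K) : ↥(subGp D' D hD ι K) :=
  ⟨xG D hD (ι (r % D'.nroots)) t, Subgroup.subset_closure ⟨r % D'.nroots, t, Nat.mod_lt _ hpos, rfl⟩⟩

theorem subX_val (hD : D ∈ Seven) (hpos : 0 < D'.nroots) (r : ℕ) (hr : r < D'.nroots) (t : K) :
    ((subX D' D hD ι hpos r t : ↥(subGp D' D hD ι K)) : ↥(D.group K)) = xG D hD (ι r) t := by
  show xG D hD (ι (r % D'.nroots)) t = xG D hD (ι r) t
  rw [Nat.mod_eq_of_lt hr]

/-- the value of a word in the generators of the subgroup -/
theorem subX_word (hD : D ∈ Seven) (hpos : 0 < D'.nroots) (w : List (ℕ × K))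
    (hw : ∀ p ∈ w, p.1 < D'.nroots) :
    (((w.map fun p => subX D' D hD ι hpos p.1 p.2).prod : ↥(subGp D' D hD ι K)) : ↥(D.group K))
      = (gGens D hD K).word (w.map fun p => (ι p.1, p.2)) := by
  induction w with
  | nil => rfl
  | cons p w ih =>
    rw [List.map_cons, List.prod_cons, Subgroup.coe_mul, ih fun q hq => hw q (List.mem_cons_of_mem _ hq),
      List.map_cons, RootGens.word_cons, subX_val hD hpos p.1 (hw p List.mem_cons_self)]
    rfl

/-- Steinberg generators of type `D'` in the subgroup -/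
def subGens (D' D : ChevalleyDatum) (hD' : D' ∈ Seven) (hD : D ∈ Seven) (ι : ℕ → ℕ)
    (hpos : 0 < D'.nroots) (h : chkEmb D' D ι = true) (K : Type*) [Field K] :
    RootGens D' K ↥(subGp D' D hD ι K) where
  X := subX D' D hD ι hpos
  X_add := by
    intro r t u hr
    apply Subtype.ext
    rw [Subgroup.coe_mul, subX_val hD hpos r hr, subX_val hD hpos r hr, subX_val hD hpos r hr]
    exact (gGens D hD K).X_add (ι r) t u (chkEmb_lt h r hr)
  X_comm := by
    intro r s t u hr hs hsr hsn
    apply Subtype.ext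
    rw [subX_word hD hpos _ (commWord_lt hD' r s hr hs hsr hsn t u),
      chkEmb_commWord h r s hr hs hsr hsn t u]
    obtain ⟨h1, h2, -⟩ := chkEmb_pair h r s hr hs hsr hsn
    have h3 := (gGens D hD K).X_comm (ι r) (ι s) t u (chkEmb_lt h r hr) (chkEmb_lt h s hs) h1 h2
    rw [Subgroup.coe_mul, Subgroup.coe_mul, Subgroup.coe_mul, Subgroup.coe_inv, Subgroup.coe_inv,
      subX_val hD hpos r hr, subX_val hD hpos s hs]
    exact h3
  gen := by
    have h0 := Subgroup.closure_closure_coe_preimage
      (k := {g : ↥(D.group K) | ∃ (r : ℕ) (t : K), r < D'.nroots ∧ g = xG D hD (ι r) t})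
    rw [eq_top_iff]
    have h' : (⊤ : Subgroup ↥(subGp D' D hD ι K)) ≤ Subgroup.closure
        (((↑) : ↥(subGp D' D hD ι K) → ↥(D.group K)) ⁻¹'
          {g : ↥(D.group K) | ∃ (r : ℕ) (t : K), r < D'.nroots ∧ g = xG D hD (ι r) t}) := h0.ge
    refine le_trans h' (Subgroup.closure_mono ?_)
    rintro g ⟨r, t, hr, hg⟩
    refine ⟨r, t, hr, ?_⟩
    apply Subtype.ext
    rw [subX_val hD hpos r hr]
    exact hg

variable (hD' : D' ∈ Seven) (hD : D ∈ Seven) (hpos : 0 < D'.nroots) (h : chkEmb D' D ι = true)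

/-- the image of `h̄_r(t)` -/
theorem subGens_hbar (r : ℕ) (hr : r < D'.nroots) (t : K) :
    (((subGens D' D hD' hD ι hpos h K).hbar r t : ↥(subGp D' D hD ι K)) : ↥(D.group K))
      = (gGens D hD K).hbar (ι r) t := by
  obtain ⟨hn, -, -⟩ := neg_lt D' hD' r hr
  have hw : ∀ p ∈ D'.hWord r t, p.1 < D'.nroots := by
    intro p hp
    unfold ChevalleyDatum.hWord ChevalleyDatum.nWord at hp
    simp only [List.cons_append, List.nil_append, List.mem_cons, List.not_mem_nil,
      or_false] at hp
    rcases hp with rfl | rfl | rfl | rfl | rfl | rfl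
    all_goals first | exact hr | exact hn
  have e : (D'.hWord r t).map (fun p => (ι p.1, p.2)) = D.hWord (ι r) t := by
    unfold ChevalleyDatum.hWord ChevalleyDatum.nWord
    simp only [List.cons_append, List.nil_append, List.map_cons, List.map_nil,
      chkEmb_neg h r hr]
  unfold RootGens.hbar
  rw [← e]
  exact subX_word hD hpos _ hw

/-- (R3) for the generators of the subgroup -/
theorem subGens_hbar_mul (r : ℕ) (t₁ t₂ : K) (hr : r < D'.nroots) (h1 : t₁ ≠ 0) (h2 : t₂ ≠ 0) :
    (subGens D' D hD' hD ι hpos h K).hbar r t₁ * (subGens D' D hD' hD ι hpos h K).hbar r t₂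
      = (subGens D' D hD' hD ι hpos h K).hbar r (t₁ * t₂) := by
  apply Subtype.ext
  rw [Subgroup.coe_mul, subGens_hbar hD' hD hpos h r hr, subGens_hbar hD' hD hpos h r hr,
    subGens_hbar hD' hD hpos h r hr]
  exact gGens_hbar_mul D hD (ι r) t₁ t₂ (chkEmb_lt h r hr) h1 h2

/-- the homomorphism from the presented group of type `D'` to the Chevalley group of `D` -/
noncomputable def embHom : D'.SteinbergGroup K →* ↥(D.group K) :=
  (subGp D' D hD ι K).subtype.comp
    ((subGens D' D hD' hD ι hpos h K).fromSt hD' (subGens_hbar_mul hD' hD hpos h))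

theorem embHom_stGen (r : ℕ) (hr : r < D'.nroots) (t : K) :
    embHom hD' hD hpos h (D'.stGen K r t) = xG D hD (ι r) t := by
  unfold embHom
  rw [MonoidHom.comp_apply, RootGens.fromSt_stGen _ hD' _ r hr t]
  exact subX_val hD hpos r hr t

/-- the image of a word -/
theorem embHom_word (w : List (ℕ × K)) (hw : ∀ p ∈ w, p.1 < D'.nroots) :
    embHom hD' hD hpos h ((stGens D' K).word w)
      = (gGens D hD K).word (w.map fun p => (ι p.1, p.2)) := by
  induction w with
  | nil =>
    rw [RootGens.word_nil, map_one]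
    rfl
  | cons p w ih =>
    rw [RootGens.word_cons, map_mul, ih fun q hq => hw q (List.mem_cons_of_mem _ hq),
      List.map_cons, RootGens.word_cons]
    congr 1
    exact embHom_stGen hD' hD hpos h p.1 (hw p List.mem_cons_self) p.2

/-- the image of `h̄_r(t)` -/
theorem embHom_hbar (r : ℕ) (hr : r < D'.nroots) (t : K) :
    embHom hD' hD hpos h ((stGens D' K).hbar r t) = (gGens D hD K).hbar (ι r) t := by
  obtain ⟨hn, -, -⟩ := neg_lt D' hD' r hr
  have hw : ∀ p ∈ D'.hWord r t, p.1 < D'.nroots := by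
    intro p hp
    unfold ChevalleyDatum.hWord ChevalleyDatum.nWord at hp
    simp only [List.cons_append, List.nil_append, List.mem_cons, List.not_mem_nil,
      or_false] at hp
    rcases hp with rfl | rfl | rfl | rfl | rfl | rfl
    all_goals first | exact hr | exact hn
  have e : (D'.hWord r t).map (fun p => (ι p.1, p.2)) = D.hWord (ι r) t := by
    unfold ChevalleyDatum.hWord ChevalleyDatum.nWord
    simp only [List.cons_append, List.nil_append, List.map_cons, List.map_nil,
      chkEmb_neg h r hr]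
  unfold RootGens.hbar
  rw [← e]
  exact embHom_word hD' hD hpos h _ hw

end Cfsg.Agent.Lib.Helper5.SubSys
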