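import Mathlib
import Cfsg.Agent.Lib.Helper5.SubSys.Emb
import Cfsg.Agent.Lib.Helper5.StPres.HTorus
import Cfsg.Agent.Lib.Helper5.ChevTorusKer

set_option autoImplicit false

/-!
The centre of the group presented by Steinberg's relations, for a datum embedded in a datum with
unimodular Cartan matrix: it is in bijection with the kernel of `(Kˣ)^l → H`.
-/

namespace Cfsg.Agent.Lib.Helper5.SubSys

open Cfsg Cfsg.Lie Cfsg.Agent.Lib.Helper5.ChevSym Cfsg.Agent.Lib.Helper5.ChevStruct
  Cfsg.Agent.Lib.Helper5.StPres Cfsg.Agent.Lib.Helper5.MatPow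

variable {K : Type*} [Field K]

theorem torusMat_congr (D : ChevalleyDatum) (c c' : ℕ → K) (h : ∀ i < D.rank, c i = c' i) :
    torusMat D c = torusMat D c' := by
  unfold torusMat
  congr 2
  funext s
  exact chi_congr D c c' h s.val

/-- the Chevalley group as a model of itself -/
def gModel (D : ChevalleyDatum) (hD : D ∈ Seven) (K : Type*) [Field K] :
    Model D K ↥(D.group K) :=
  ⟨gGens D hD K, (D.group K).subtype, fun r t _ => xG_val D hD r t⟩

theorem gGens_hbar_val (D : ChevalleyDatum) (hD : D ∈ Seven) (a : ℕ) (ha : a < D.nroots) (t : K) :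
    ((((gGens D hD K).hbar a t : ↥(D.group K)) : GL D.Idx K) : Matrix D.Idx D.Idx K)
      = D.hMat K a t := by
  have h1 := (gModel D hD K).π_nbar hD a ha t
  have h2 := (gModel D hD K).π_nbar hD a ha (-1)
  rw [RootGens.hbar_eq, Subgroup.coe_mul, Units.val_mul, hMat_eq]
  exact congrArg₂ (· * ·) h1 h2

theorem gGens_hprod_val (D : ChevalleyDatum) (hD : D ∈ Seven) (c : ℕ → K) (hc : ∀ i, c i ≠ 0)
    (k : ℕ) (hk : k ≤ D.rank) :
    ((((gGens D hD K).hprod c k : ↥(D.group K)) : GL D.Idx K) : Matrix D.Idx D.Idx K)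
      = torusMat D (fun i => if i < k then c i else 1) := by
  induction k with
  | zero =>
    rw [RootGens.hprod_zero, Subgroup.coe_one, Units.val_one]
    simp only [Nat.not_lt_zero, if_false]
    exact (torusMat_one D).symm
  | succ k ih =>
    have hk' : k < D.rank := hk
    have hp := (checkUp_spec D k (chkUp_all D hD k hk')).1
    rw [RootGens.hprod_succ, Subgroup.coe_mul, Units.val_mul, ih (by omega),
      gGens_hbar_val D hD _ hp.1, hMat_simple_eq_torusMat D hD k hk' (c k) (hc k), torusMat_mul]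
    congr 1
    funext i
    by_cases h1 : i < k
    · have h2 : i < k + 1 := by omega
      have h3 : ¬ i = k := by omega
      rw [if_pos h1, if_pos h2, if_neg h3, mul_one]
    · by_cases h3 : i = k
      · have h2 : i < k + 1 := by omega
        rw [if_neg h1, if_pos h2, if_pos h3, one_mul, h3]
      · have h2 : ¬ i < k + 1 := by omega
        rw [if_neg h1, if_neg h2, if_neg h3, one_mul]

variable {D' D : ChevalleyDatum} {ι : ℕ → ℕ}
  (hD' : D' ∈ Seven) (hD : D ∈ Seven) (hpos : 0 < D'.nroots) (h : chkEmb D' D ι = true)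

theorem embHom_hprod (hs : ∀ i < D'.rank, ι (D'.simple i) = D.simple i) (c : ℕ → K) (k : ℕ)
    (hk : k ≤ D'.rank) :
    embHom hD' hD hpos h ((stGens D' K).hprod c k) = (gGens D hD K).hprod c k := by
  induction k with
  | zero => rw [RootGens.hprod_zero, RootGens.hprod_zero, map_one]
  | succ k ih =>
    have hk' : k < D'.rank := hk
    have hp := (checkUp_spec D' k (chkUp_all D' hD' k hk')).1
    rw [RootGens.hprod_succ, RootGens.hprod_succ, map_mul, ih (by omega),
      embHom_hbar hD' hD hpos h _ hp.1, hs k hk']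

include hD' hD hpos h

/-- when the ambient datum has an injective torus, `c ↦ ∏ h̄_{a_i}(c_i)` is injective -/
theorem hprod_injective (hs : ∀ i < D'.rank, ι (D'.simple i) = D.simple i)
    (hrk : D'.rank ≤ D.rank)
    (hinj : ∀ c : Fin D.rank → Kˣ, torHom D K c = 1 → c = 1)
    (c c' : ℕ → K) (hc : ∀ i, c i ≠ 0) (hc' : ∀ i, c' i ≠ 0)
    (he : (stGens D' K).hprod c D'.rank = (stGens D' K).hprod c' D'.rank) :
    ∀ i < D'.rank, c i = c' i := by
  have h1 := congrArg (embHom hD' hD hpos h) he
  rw [embHom_hprod hD' hD hpos h hs c _ (le_refl _),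
    embHom_hprod hD' hD hpos h hs c' _ (le_refl _)] at h1
  have h2 : torusMat D (fun i => if i < D'.rank then c i else 1)
      = torusMat D (fun i => if i < D'.rank then c' i else 1) := by
    rw [← gGens_hprod_val D hD c hc _ hrk, ← gGens_hprod_val D hD c' hc' _ hrk, h1]
  set d : Fin D.rank → Kˣ := fun i => if hi : i.val < D'.rank then Units.mk0 (c i.val) (hc i.val)
    else 1 with hd
  set d' : Fin D.rank → Kˣ := fun i => if hi : i.val < D'.rank then Units.mk0 (c' i.val) (hc' i.val)
    else 1 with hd'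
  have e1 : torusMat D (extU D d) = torusMat D (fun i => if i < D'.rank then c i else 1) := by
    apply torusMat_congr
    intro i hi
    rw [extU_of_lt D d i hi, hd]
    beta_reduce
    split_ifs <;> simp
  have e2 : torusMat D (extU D d') = torusMat D (fun i => if i < D'.rank then c' i else 1) := by
    apply torusMat_congr
    intro i hi
    rw [extU_of_lt D d' i hi, hd']
    beta_reduce
    split_ifs <;> simp
  have h3 : torHom D K d = torHom D K d' := by
    apply Units.ext
    rw [torHom_val, torHom_val, e1, e2, h2]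
  have h4 : d * d'⁻¹ = 1 := by
    apply hinj
    rw [map_mul, map_inv, h3, mul_inv_cancel]
  have h5 : d = d' := mul_inv_eq_one.1 h4
  intro i hi
  have h6 := congrFun h5 ⟨i, lt_of_lt_of_le hi hrk⟩
  rw [hd, hd'] at h6
  beta_reduce at h6
  rw [dif_pos hi, dif_pos hi] at h6
  exact congrArg Units.val h6

/-- the centre of the presented group is in bijection with the kernel of `(Kˣ)^l → H` -/
theorem card_center_eq (hs : ∀ i < D'.rank, ι (D'.simple i) = D.simple i)
    (hrk : D'.rank ≤ D.rank)
    (hinj : ∀ c : Fin D.rank → Kˣ, torHom D K c = 1 → c = 1) :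
    Nat.card (Subgroup.center (D'.SteinbergGroup K))
      = Nat.card (mpow (fmat (cartanFn D') D'.rank) :
          (Fin D'.rank → Kˣ) →* (Fin D'.rank → Kˣ)).ker := by
  obtain ⟨θ, -, hker, hθ⟩ := st_main D' hD' K
  set B := stBiModel D' hD' θ hθ with hB
  have hR3 : ∀ (i : ℕ) (t₁ t₂ : K), i < D'.rank → t₁ ≠ 0 → t₂ ≠ 0 →
      B.R.hbar (D'.simple i) t₁ * B.R.hbar (D'.simple i) t₂ = B.R.hbar (D'.simple i) (t₁ * t₂) :=
    fun i t₁ t₂ hi h1 h2 => stGens_hbar_mul D' K _ t₁ t₂
      (checkUp_spec D' i (chkUp_all D' hD' i hi)).1.1 h1 h2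
  have hkt : (torHom D' K).ker = (mpow (fmat (cartanFn D') D'.rank) :
      (Fin D'.rank → Kˣ) →* (Fin D'.rank → Kˣ)).ker := by
    ext c
    exact mem_ker_torHom_iff D' hD' c
  rw [← hkt]
  -- the value of `π` on a product
  have hval : ∀ c : Fin D'.rank → Kˣ,
      ((B.π (B.R.hprod (extU D' c) D'.rank) : GL D'.Idx K) : Matrix D'.Idx D'.Idx K)
        = torusMat D' (extU D' c) := by
    intro c
    rw [B.π_hprod hD' (extU D' c) (extU_ne_zero D' c) _ (le_refl _)]
    apply torusMat_congr
    intro i hi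
    rw [if_pos hi]
  have hmem : ∀ c : (torHom D' K).ker,
      B.R.hprod (extU D' c.val) D'.rank ∈ Subgroup.center (D'.SteinbergGroup K) := by
    intro c
    rw [← hker, MonoidHom.mem_ker]
    apply Subtype.ext
    apply Units.ext
    have h1 := hval c.val
    have h2 : torHom D' K c.val = 1 := MonoidHom.mem_ker.1 c.2
    rw [← torHom_val, h2] at h1
    exact h1
  symm
  apply Nat.card_congr
  refine Equiv.ofBijective (fun c => ⟨B.R.hprod (extU D' c.val) D'.rank, hmem c⟩) ⟨?_, ?_⟩
  · intro c c' he
    have he' : (stGens D' K).hprod (extU D' c.val) D'.rank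
        = (stGens D' K).hprod (extU D' c'.val) D'.rank := congrArg Subtype.val he
    have h1 := hprod_injective hD' hD hpos h hs hrk hinj _ _ (extU_ne_zero D' c.val)
      (extU_ne_zero D' c'.val) he'
    apply Subtype.ext
    funext i
    have h2 := h1 i.val i.2
    rw [extU_of_lt D' _ _ i.2, extU_of_lt D' _ _ i.2] at h2
    exact Units.ext h2
  · rintro ⟨z, hz⟩
    have hz1 : z ∈ θ.ker := by rw [hker]; exact hz
    have hz2 := ker_le_stBiModel D' hD' θ hθ hz1
    obtain ⟨c, hc, rfl⟩ := B.exists_hprod hD' hR3 z (B.ker_le_hSub hD' hz2)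
    set cu : Fin D'.rank → Kˣ := fun i => Units.mk0 (c i.val) (hc i.val) with hcu
    have hce : ∀ i < D'.rank, extU D' cu i = c i := by
      intro i hi
      rw [extU_of_lt D' cu i hi]
      rfl
    have hcu1 : cu ∈ (torHom D' K).ker := by
      rw [MonoidHom.mem_ker]
      apply Units.ext
      rw [torHom_val, Units.val_one]
      have h1 := B.π_hprod hD' c hc _ (le_refl D'.rank)
      rw [MonoidHom.mem_ker.1 hz2, Units.val_one] at h1
      rw [h1]
      apply torusMat_congr
      intro i hi
      rw [if_pos hi, hce i hi]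
    refine ⟨⟨cu, hcu1⟩, ?_⟩
    apply Subtype.ext
    exact B.R.hprod_congr _ _ _ hce

end Cfsg.Agent.Lib.Helper5.SubSys
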