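import Mathlib
import Cfsg.Agent.Lib.Helper5.SubSys.E8Tab

set_option autoImplicit false

namespace Cfsg.Agent.Lib.Helper5.SubSys

open Cfsg Cfsg.Lie

set_option maxRecDepth 1000000 in
theorem chkEmb_E6E8_0 :
    (List.range' 0 12).all (chkEmbRow chevE6 chevE8 iotaE6E8) = true := by decide +kernel

set_option maxRecDepth 1000000 in
theorem chkEmb_E6E8_12 :
    (List.range' 12 12).all (chkEmbRow chevE6 chevE8 iotaE6E8) = true := by decide +kernel

set_option maxRecDepth 1000000 in
theorem chkEmb_E6E8_24 :
    (List.range' 24 12).all (chkEmbRow chevE6 chevE8 iotaE6E8) = true := by decide +kernel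

set_option maxRecDepth 1000000 in
theorem chkEmb_E6E8_36 :
    (List.range' 36 12).all (chkEmbRow chevE6 chevE8 iotaE6E8) = true := by decide +kernel

set_option maxRecDepth 1000000 in
theorem chkEmb_E6E8_48 :
    (List.range' 48 12).all (chkEmbRow chevE6 chevE8 iotaE6E8) = true := by decide +kernel

set_option maxRecDepth 1000000 in
theorem chkEmb_E6E8_60 :
    (List.range' 60 12).all (chkEmbRow chevE6 chevE8 iotaE6E8) = true := by decide +kernel

end Cfsg.Agent.Lib.Helper5.SubSys
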