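import Mathlib
import Cfsg.Agent.Lib.Helper5.SubSys.E8Tab

set_option autoImplicit false

namespace Cfsg.Agent.Lib.Helper5.SubSys

open Cfsg Cfsg.Lie

set_option maxRecDepth 1000000 in
theorem chkEmb_E7E8_0 :
    (List.range' 0 9).all (chkEmbRow chevE7 chevE8 iotaE7E8) = true := by decide +kernel

set_option maxRecDepth 1000000 in
theorem chkEmb_E7E8_9 :
    (List.range' 9 9).all (chkEmbRow chevE7 chevE8 iotaE7E8) = true := by decide +kernel

set_option maxRecDepth 1000000 in
theorem chkEmb_E7E8_18 :
    (List.range' 18 9).all (chkEmbRow chevE7 chevE8 iotaE7E8) = true := by decide +kernel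

set_option maxRecDepth 1000000 in
theorem chkEmb_E7E8_27 :
    (List.range' 27 9).all (chkEmbRow chevE7 chevE8 iotaE7E8) = true := by decide +kernel

set_option maxRecDepth 1000000 in
theorem chkEmb_E7E8_36 :
    (List.range' 36 9).all (chkEmbRow chevE7 chevE8 iotaE7E8) = true := by decide +kernel

set_option maxRecDepth 1000000 in
theorem chkEmb_E7E8_45 :
    (List.range' 45 9).all (chkEmbRow chevE7 chevE8 iotaE7E8) = true := by decide +kernel

set_option maxRecDepth 1000000 in
theorem chkEmb_E7E8_54 :
    (List.range' 54 9).all (chkEmbRow chevE7 chevE8 iotaE7E8) = true := by decide +kernel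

end Cfsg.Agent.Lib.Helper5.SubSys
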