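import Mathlib
import Cfsg.Agent.Lib.Helper5.SubSys.E8Tab

set_option autoImplicit false

namespace Cfsg.Agent.Lib.Helper5.SubSys

open Cfsg Cfsg.Lie

set_option maxRecDepth 1000000 in
theorem chkEmb_E7E8_63 :
    (List.range' 63 9).all (chkEmbRow chevE7 chevE8 iotaE7E8) = true := by decide +kernel

set_option maxRecDepth 1000000 in
theorem chkEmb_E7E8_72 :
    (List.range' 72 9).all (chkEmbRow chevE7 chevE8 iotaE7E8) = true := by decide +kernel

set_option maxRecDepth 1000000 in
theorem chkEmb_E7E8_81 :
    (List.range' 81 9).all (chkEmbRow chevE7 chevE8 iotaE7E8) = true := by decide +kernel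

set_option maxRecDepth 1000000 in
theorem chkEmb_E7E8_90 :
    (List.range' 90 9).all (chkEmbRow chevE7 chevE8 iotaE7E8) = true := by decide +kernel

set_option maxRecDepth 1000000 in
theorem chkEmb_E7E8_99 :
    (List.range' 99 9).all (chkEmbRow chevE7 chevE8 iotaE7E8) = true := by decide +kernel

set_option maxRecDepth 1000000 in
theorem chkEmb_E7E8_108 :
    (List.range' 108 9).all (chkEmbRow chevE7 chevE8 iotaE7E8) = true := by decide +kernel

set_option maxRecDepth 1000000 in
theorem chkEmb_E7E8_117 :
    (List.range' 117 9).all (chkEmbRow chevE7 chevE8 iotaE7E8) = true := by decide +kernel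

end Cfsg.Agent.Lib.Helper5.SubSys
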