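import Mathlib
import Cfsg.Agent.Lib.Helper5.SubSys.ChkE6_0
import Cfsg.Agent.Lib.Helper5.SubSys.ChkE7_0
import Cfsg.Agent.Lib.Helper5.SubSys.ChkE7_1
import Cfsg.Agent.Lib.Helper5.StPres.Chk.OppAll

set_option autoImplicit false

namespace Cfsg.Agent.Lib.Helper5.SubSys

open Cfsg Cfsg.Lie Cfsg.Agent.Lib.Helper5.ChevSym

theorem chkEmb_E6E8 : chkEmb chevE6 chevE8 iotaE6E8 = true := by
  apply chkEmb_of_rows
  intro r hr
  have hr' : r < 72 := hr
  have hall : ∀ k < 6, (List.range' (12 * k) 12).all (chkEmbRow chevE6 chevE8 iotaE6E8) = true := by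
    intro k hk
    interval_cases k
    exacts [chkEmb_E6E8_0, chkEmb_E6E8_12, chkEmb_E6E8_24, chkEmb_E6E8_36, chkEmb_E6E8_48, chkEmb_E6E8_60]
  exact all_range'_spec _ _ _ (hall (r / 12) (by omega)) r (by omega) (by omega)

theorem chkEmb_E7E8 : chkEmb chevE7 chevE8 iotaE7E8 = true := by
  apply chkEmb_of_rows
  intro r hr
  have hr' : r < 126 := hr
  have hall : ∀ k < 14, (List.range' (9 * k) 9).all (chkEmbRow chevE7 chevE8 iotaE7E8) = true := by
    intro k hk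
    interval_cases k
    exacts [chkEmb_E7E8_0, chkEmb_E7E8_9, chkEmb_E7E8_18, chkEmb_E7E8_27, chkEmb_E7E8_36, chkEmb_E7E8_45, chkEmb_E7E8_54, chkEmb_E7E8_63, chkEmb_E7E8_72, chkEmb_E7E8_81, chkEmb_E7E8_90, chkEmb_E7E8_99, chkEmb_E7E8_108, chkEmb_E7E8_117]
  exact all_range'_spec _ _ _ (hall (r / 9) (by omega)) r (by omega) (by omega)

end Cfsg.Agent.Lib.Helper5.SubSys
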